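import Mathlib
import Cfsg.Agent.Lib.Helper14.Sp8.Defs
import Cfsg.Agent.Lib.Helper14.OCls.Final

/-!
# SP8 (S3589), package [TMB]

A matrix of order `q ^ (m + 1) + 1` with self-dual characteristic polynomial whose non-trivial
powers fix only `0` is conjugate to an isometry of the minus form (characteristic `2`).
-/

set_option autoImplicit false

namespace Cfsg.Agent.Lib.Helper88.Sp8

open Polynomial Matrix Cfsg.Agent.Lib.Helper40.DualPoly Cfsg.Agent.Lib.Helper14.OCls
  Cfsg.Agent.Lib.Helper14.Sp8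

universe u

/-- Powers of an isometry are isometries. -/
theorem tmb_pow_isom {F : Type u} [Field F] {ι : Type} [Fintype ι] [DecidableEq ι]
    (Q : (ι → F) → F) (M : Matrix ι ι F) (h : ∀ v, Q (M *ᵥ v) = Q v) (j : ℕ) :
    ∀ v, Q ((M ^ j) *ᵥ v) = Q v := by
  induction j with
  | zero => intro v; simp
  | succ j ih =>
    intro v
    rw [pow_succ, ← Matrix.mulVec_mulVec, ih, h]

/-- Conjugation and powers. -/
theorem tmb_conj_pow {F : Type u} [Field F] {ι κ : Type} [Fintype ι] [DecidableEq ι]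
    [Fintype κ] [DecidableEq κ] (A : Matrix κ ι F) (B : Matrix ι κ F) (hAB : A * B = 1)
    (hBA : B * A = 1) (M : Matrix ι ι F) (j : ℕ) : (A * M * B) ^ j = A * M ^ j * B := by
  induction j with
  | zero => simp [hAB]
  | succ j ih =>
    rw [pow_succ, ih, pow_succ]
    calc A * M ^ j * B * (A * M * B) = A * M ^ j * (B * A) * M * B := by
          simp only [Matrix.mul_assoc]
      _ = A * (M ^ j * M) * B := by rw [hBA]; simp only [Matrix.mul_assoc, Matrix.mul_one]

theorem pkgTMB : PkgTMB.{u} := by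
  intro F _ _ _ m a b hab M hord hdual hfree
  classical
  obtain ⟨n, hn⟩ := FiniteField.card F 2
  have hq2 : 2 ≤ Fintype.card F := by
    rw [hn.2]; exact Nat.le_self_pow n.pos.ne' 2
  have hqeven : Even (Fintype.card F) := by
    rw [hn.2]; exact (Nat.even_pow.2 ⟨even_two, n.pos.ne'⟩)
  have hNodd : Odd (Fintype.card F ^ (m + 1) + 1) :=
    Even.add_one (Nat.even_pow.2 ⟨hqeven, by omega⟩)
  have hN3 : 3 ≤ Fintype.card F ^ (m + 1) + 1 := by
    have : 2 ≤ Fintype.card F ^ (m + 1) :=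
      le_trans hq2 (Nat.le_self_pow (by omega) _)
    omega
  have hNF : ((Fintype.card F ^ (m + 1) + 1 : ℕ) : F) ≠ 0 := by
    push_cast
    rw [Nat.cast_card_eq_zero]
    simp
  have hMN : M ^ (Fintype.card F ^ (m + 1) + 1) = 1 := (hord _).2 dvd_rfl
  have heval : M.charpoly.eval 1 ≠ 0 := by
    rw [Matrix.eval_charpoly]
    intro h0
    obtain ⟨v, hv0, hv⟩ := Matrix.exists_mulVec_eq_zero_iff.2 h0
    apply hv0
    apply hfree 1 _ v
    · rw [pow_one]
      have : (Matrix.scalar (Fin (2 * (m + 1))) (1 : F) - M) *ᵥ v = v - M *ᵥ v := by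
        rw [Matrix.sub_mulVec]; simp
      rw [this] at hv
      exact (sub_eq_zero.1 hv).symm
    · intro hd
      have := Nat.le_of_dvd one_pos hd
      omega
  obtain ⟨Q, hnd, hQM⟩ := Cfsg.Agent.Lib.Helper79.OCls.pkgInvForm M
    (Fintype.card F ^ (m + 1) + 1) hNodd hNF hMN hdual heval
  have hfr : Module.finrank F (Fin (2 * (m + 1)) → F) = 2 * (m + 1) := Module.finrank_fin_fun F
  rcases classEven Q hnd (m + 1) hfr a b hab with ⟨φ, hφ⟩ | ⟨m', hm', φ, hφ⟩
  · -- plus: impossible
    exfalso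
    set N := Fintype.card F ^ (m + 1) + 1 with hN
    set r := Nat.minFac N with hr
    have hrp : r.Prime := Nat.minFac_prime (by omega)
    have hrN : r ∣ N := Nat.minFac_dvd N
    have hrodd : Odd r := by
      rcases hrp.eq_two_or_odd' with h2 | ho
      · exfalso
        rw [h2] at hrN
        exact (Nat.not_even_iff_odd.2 hNodd) (even_iff_two_dvd.2 hrN)
      · exact ho
    have hgr : (M ^ (N / r)) ^ r = 1 := by
      rw [← pow_mul, Nat.div_mul_cancel hrN]; exact hMN
    have hgiso : ∀ v, Q ((M ^ (N / r)) *ᵥ v) = Q v := tmb_pow_isom (fun v => Q v) M hQM _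
    have hndvd : ¬ N ∣ N / r := by
      intro hd
      have hpos : 0 < N / r := Nat.div_pos (Nat.le_of_dvd (by omega) hrN) hrp.pos
      have h1 := Nat.le_of_dvd hpos hd
      have h2 : N / r < N := Nat.div_lt_self (by omega) hrp.one_lt
      omega
    have hfix : ∀ v, (M ^ (N / r)) *ᵥ v = v → v = 0 := hfree _ hndvd
    have hF := Cfsg.Agent.Lib.Helper85.OCls.pkgFree (fun v => Q v) (M ^ (N / r)) r hrp hgiso hgr
    have hc1 : Nat.card {v : Fin (2 * (m + 1)) → F // Q v = 0 ∧ (M ^ (N / r)) *ᵥ v = v} = 1 := by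
      rw [Nat.card_eq_one_iff_unique]
      refine ⟨⟨fun x y => ?_⟩, ⟨⟨0, by simp⟩⟩⟩
      apply Subtype.ext
      rw [hfix x.1 x.2.2, hfix y.1 y.2.2]
    have hc2 : Nat.card {v : Fin (2 * (m + 1)) → F // Q v = 0} =
        Nat.card {v : Fin (m + 1) ⊕ Fin (m + 1) → F // Cfsg.quadFormPlus (m + 1) F v = 0} := by
      apply Nat.card_congr
      exact φ.toEquiv.subtypeEquiv (fun v => by rw [← hφ v]; rfl)
    have hZ := Cfsg.Agent.Lib.Helper4.OCls.pkgZerosPlus (F := F) (m + 1)
    rw [← hc2] at hZ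
    rw [hc1] at hF
    -- work in ZMod r
    have : Fact r.Prime := ⟨hrp⟩
    have hZr : ((Nat.card {v : Fin (2 * (m + 1)) → F // Q v = 0} : ℕ) : ZMod r) = 1 := by
      have := (ZMod.intCast_eq_intCast_iff _ _ _).2 hF
      simpa using this
    have hqr : ((Fintype.card F : ℕ) : ZMod r) ^ (m + 1) = -1 := by
      have h0 : ((N : ℕ) : ZMod r) = 0 := (ZMod.natCast_eq_zero_iff _ _).2 hrN
      rw [hN] at h0
      push_cast at h0
      exact eq_neg_of_add_eq_zero_left h0
    have hZc := congrArg (Int.cast : ℤ → ZMod r) hZ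
    push_cast at hZc
    rw [hZr] at hZc
    have e1 : ((Fintype.card F : ℕ) : ZMod r) ^ (2 * (m + 1)) = 1 := by
      rw [mul_comm, pow_mul, hqr]; norm_num
    have e2 : ((Fintype.card F : ℕ) : ZMod r) ^ (m + 1 + 1) = -(Fintype.card F : ZMod r) := by
      rw [pow_succ, hqr]; ring
    rw [e1, e2, hqr] at hZc
    have h2 : (2 : ZMod r) * ((Fintype.card F : ZMod r) - 1) = 0 := by linear_combination hZc
    have h2ne : (2 : ZMod r) ≠ 0 := by
      intro h
      have : r ∣ 2 := (ZMod.natCast_eq_zero_iff 2 r).1 (by exact_mod_cast h)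
      have hr2 : r = 2 := (Nat.prime_dvd_prime_iff_eq hrp Nat.prime_two).1 this
      rw [hr2] at hrodd
      exact absurd hrodd (by decide)
    have hq1 : (Fintype.card F : ZMod r) = 1 := by
      rcases mul_eq_zero.1 h2 with h | h
      · exact absurd h h2ne
      · exact sub_eq_zero.1 h
    rw [hq1, one_pow] at hqr
    apply h2ne
    linear_combination hqr
  · -- minus
    have hmm : m' = m := by omega
    subst hmm
    set A : Matrix ((Fin m' ⊕ Fin m') ⊕ Fin 2) (Fin (2 * (m' + 1))) F :=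
      LinearMap.toMatrix' φ.toLinearMap with hA
    set B : Matrix (Fin (2 * (m' + 1))) ((Fin m' ⊕ Fin m') ⊕ Fin 2) F :=
      LinearMap.toMatrix' φ.symm.toLinearMap with hB
    have hAB : A * B = 1 := by
      rw [hA, hB, ← LinearMap.toMatrix'_comp]
      simp
    have hBA : B * A = 1 := by
      rw [hA, hB, ← LinearMap.toMatrix'_comp]
      simp
    have hAv : ∀ w, A *ᵥ w = φ w := fun w => by
      rw [hA, LinearMap.toMatrix'_mulVec]; rfl
    have hBv : ∀ w, B *ᵥ w = φ.symm w := fun w => by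
      rw [hB, LinearMap.toMatrix'_mulVec]; rfl
    refine ⟨A * M * B, fun v => ?_, fun j => ?_⟩
    · rw [← Matrix.mulVec_mulVec, ← Matrix.mulVec_mulVec, hAv, hBv, hφ, hQM, ← hφ]
      simp
    · rw [tmb_conj_pow A B hAB hBA, ← hord j]
      constructor
      · intro h
        calc M ^ j = (B * A) * M ^ j * (B * A) := by rw [hBA]; simp
          _ = B * (A * M ^ j * B) * A := by simp only [Matrix.mul_assoc]
          _ = B * (1 : Matrix ((Fin m' ⊕ Fin m') ⊕ Fin 2) ((Fin m' ⊕ Fin m') ⊕ Fin 2) F) * A := by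
            rw [h]
          _ = 1 := by rw [Matrix.mul_one, hBA]
      · intro h
        rw [h, Matrix.mul_one, hAB]

end Cfsg.Agent.Lib.Helper88.Sp8
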